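import Mathlib

/-!
# Order types: definitions for S4376

`solCount X n` is the number of solutions of `x ^ n = 1` in `X`.
We build the solvable group `GG = AΓL(1,8) × (Y ≀ C₂)` and (in another file) the
non-solvable group `HH = PGL(2,7) × Y × Y`, where `Y = C₂ × C₂ × C₄ × F₂₁`.
-/

namespace Cfsg.Agent.Lib.Helper49.OT

/-- number of solutions of `x ^ n = 1` -/
noncomputable def solCount (X : Type*) [Monoid X] (n : ℕ) : ℕ :=
  Nat.card {x : X // x ^ n = 1}

/-- The hom from the cyclic group `C_m` to `MulAut N` determined by `α` with `α ^ m = 1`. -/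
def cycHom {N : Type*} [Group N] (m : ℕ) [NeZero m] (α : MulAut N) (h : α ^ m = 1) :
    Multiplicative (ZMod m) →* MulAut N where
  toFun k := α ^ (Multiplicative.toAdd k).val
  map_one' := by simp
  map_mul' a b := by
    rw [← pow_add]
    show α ^ (Multiplicative.toAdd a + Multiplicative.toAdd b).val = _
    rw [ZMod.val_add, ← pow_eq_pow_mod _ h]

instance instFintypeSemidirect {N K : Type*} [Group N] [Group K] (φ : K →* MulAut N)
    [Fintype N] [Fintype K] : Fintype (N ⋊[φ] K) :=
  Fintype.ofEquiv (N × K) SemidirectProduct.equivProd.symm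

/-- cyclic group of order `m`, multiplicatively -/
abbrev C (m : ℕ) := Multiplicative (ZMod m)

/-- the swap automorphism of `X × X` -/
def swapAut (X : Type*) [Group X] : MulAut (X × X) := MulEquiv.prodComm

theorem swapAut_sq (X : Type*) [Group X] : swapAut X ^ 2 = 1 := by
  ext x <;> rfl

/-- `X ≀ C₂` -/
abbrev WrC2 (X : Type*) [Group X] := (X × X) ⋊[cycHom 2 (swapAut X) (swapAut_sq X)] C 2

/-- squaring on `C₇` -/
def sq7 : MulAut (C 7) where
  toFun x := x ^ 2
  invFun x := x ^ 4
  left_inv := by decide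
  right_inv := by decide
  map_mul' x y := mul_pow x y 2

theorem sq7_pow : sq7 ^ 3 = 1 := by
  apply MulEquiv.ext
  decide

/-- the Frobenius group of order 21 -/
abbrev F21 := C 7 ⋊[cycHom 3 sq7 sq7_pow] C 3

/-- additive group of `𝔽₈ = 𝔽₂[t]/(t³+t+1)`, multiplicatively -/
abbrev V8 := Multiplicative (ZMod 2 × ZMod 2 × ZMod 2)

/-- multiplication by `t` on `𝔽₈` -/
def mulT : MulAut V8 where
  toFun v := Multiplicative.ofAdd
    ((Multiplicative.toAdd v).2.2, (Multiplicative.toAdd v).1 + (Multiplicative.toAdd v).2.2,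
      (Multiplicative.toAdd v).2.1)
  invFun v := Multiplicative.ofAdd
    ((Multiplicative.toAdd v).1 + (Multiplicative.toAdd v).2.1, (Multiplicative.toAdd v).2.2,
      (Multiplicative.toAdd v).1)
  left_inv := by decide
  right_inv := by decide
  map_mul' := by decide

theorem mulT_pow : mulT ^ 7 = 1 := by
  apply MulEquiv.ext
  decide

/-- `AGL(1,8)` -/
abbrev AGL8 := V8 ⋊[cycHom 7 mulT mulT_pow] C 7

/-- Frobenius `x ↦ x²` on `𝔽₈` -/
def frobV (v : V8) : V8 := Multiplicative.ofAdd
    ((Multiplicative.toAdd v).1, (Multiplicative.toAdd v).2.2,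
      (Multiplicative.toAdd v).2.1 + (Multiplicative.toAdd v).2.2)

/-- inverse of the Frobenius on `𝔽₈` -/
def frobVinv (v : V8) : V8 := Multiplicative.ofAdd
    ((Multiplicative.toAdd v).1, (Multiplicative.toAdd v).2.1 + (Multiplicative.toAdd v).2.2,
      (Multiplicative.toAdd v).2.1)

set_option maxRecDepth 100000 in
/-- the field automorphism acting on `AGL(1,8)` -/
def frobAut : MulAut AGL8 where
  toFun x := ⟨frobV x.left, x.right ^ 2⟩
  invFun x := ⟨frobVinv x.left, x.right ^ 4⟩
  left_inv := by decide +kernel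
  right_inv := by decide +kernel
  map_mul' := by decide +kernel

set_option maxRecDepth 100000 in
theorem frobAut_pow : frobAut ^ 3 = 1 := by
  apply MulEquiv.ext
  decide +kernel

/-- `AΓL(1,8)` -/
abbrev AGaL8 := AGL8 ⋊[cycHom 3 frobAut frobAut_pow] C 3

/-- `Y = C₂ × C₂ × C₄ × F₂₁` -/
abbrev Y := C 2 × C 2 × C 4 × F21

/-- the solvable group `AΓL(1,8) × (Y ≀ C₂)` -/
abbrev GG := AGaL8 × WrC2 Y

theorem solCount_eq_card_filter (X : Type*) [Monoid X] [Fintype X] [DecidableEq X] (n : ℕ) :
    solCount X n = (Finset.univ.filter fun x : X => x ^ n = 1).card := by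
  unfold solCount
  rw [Nat.card_eq_fintype_card, Fintype.card_subtype]

end Cfsg.Agent.Lib.Helper49.OT
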