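import Mathlib
import Cfsg.Agent.Lib.Helper49.OT.Defs

/-! OT-L1 (S4376 hive, owner helper49; leaf by helper46) -/

namespace Cfsg.Agent.Lib.Helper49.OT

theorem orderType_solCount_eq_sum (G : Type*) [Group G] [Finite G] (n : ℕ) (hn : 0 < n) :
    solCount G n = ∑ d ∈ n.divisors, Nat.card {g : G // orderOf g = d} := by
  classical
  have : Fintype G := Fintype.ofFinite G
  unfold solCount
  rw [Nat.card_eq_fintype_card, Fintype.card_subtype]
  rw [Finset.card_eq_sum_card_fiberwise (f := fun x : G => orderOf x) (t := n.divisors)]
  · apply Finset.sum_congr rfl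
    intro d hd
    rw [Nat.card_eq_fintype_card, Fintype.card_subtype]
    congr 1
    ext x
    simp only [Finset.mem_filter, Finset.mem_univ, true_and]
    constructor
    · exact fun h => h.2
    · intro h
      refine ⟨?_, h⟩
      rw [← orderOf_dvd_iff_pow_eq_one, h]
      exact Nat.dvd_of_mem_divisors hd
  · intro x hx
    have hx' : x ^ n = 1 := by simpa using hx
    show orderOf x ∈ (n.divisors : Set ℕ)
    rw [Finset.mem_coe, Nat.mem_divisors]
    exact ⟨orderOf_dvd_of_pow_eq_one hx', hn.ne'⟩

theorem orderType_eq_of_solCount_eq {G H : Type*} [Group G] [Group H] [Finite G] [Finite H]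
    (h : ∀ n, 0 < n → solCount G n = solCount H n) (n : ℕ) :
    Nat.card {g : G // orderOf g = n} = Nat.card {h : H // orderOf h = n} := by
  induction n using Nat.strong_induction_on with
  | _ n ih =>
    rcases Nat.eq_zero_or_pos n with rfl | hn
    · have h1 : IsEmpty {g : G // orderOf g = 0} := ⟨fun x => (orderOf_pos x.1).ne' x.2⟩
      have h2 : IsEmpty {g : H // orderOf g = 0} := ⟨fun x => (orderOf_pos x.1).ne' x.2⟩
      rw [Nat.card_of_isEmpty, Nat.card_of_isEmpty]
    · have e := h n hn
      rw [orderType_solCount_eq_sum G n hn, orderType_solCount_eq_sum H n hn,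
        ← Nat.insert_self_properDivisors hn.ne', Finset.sum_insert Nat.self_notMem_properDivisors,
        Finset.sum_insert Nat.self_notMem_properDivisors] at e
      have e2 : ∑ d ∈ n.properDivisors, Nat.card {g : G // orderOf g = d} =
          ∑ d ∈ n.properDivisors, Nat.card {g : H // orderOf g = d} :=
        Finset.sum_congr rfl (fun d hd => ih d (Nat.mem_properDivisors.mp hd).2)
      omega

end Cfsg.Agent.Lib.Helper49.OT
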