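import Mathlib
import Cfsg.Agent.Lib.Helper49.OT.Defs

/-! OT-L4 (S4376 hive, owner helper49; leaf by helper46) -/

namespace Cfsg.Agent.Lib.Helper49.OT

theorem solCount_gcd (X : Type*) [Group X] (E : ℕ) (hE : ∀ x : X, x ^ E = 1) (n : ℕ) :
    solCount X n = solCount X (Nat.gcd n E) := by
  unfold solCount
  apply Nat.card_congr
  apply Equiv.subtypeEquivRight
  intro x
  constructor
  · intro h
    exact pow_gcd_eq_one.mpr ⟨h, hE x⟩
  · intro h
    obtain ⟨k, hk⟩ := Nat.gcd_dvd_left n E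
    rw [hk, pow_mul, h, one_pow]

end Cfsg.Agent.Lib.Helper49.OT
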