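import Mathlib
import Cfsg.Agent.Lib.Helper49.OT.Defs

/-! OT-L2 (S4376 hive, owner helper49; leaf by helper46) -/

namespace Cfsg.Agent.Lib.Helper49.OT

theorem solCount_prod (A B : Type*) [Monoid A] [Monoid B] (n : ℕ) :
    solCount (A × B) n = solCount A n * solCount B n := by
  unfold solCount
  rw [← Nat.card_prod]
  apply Nat.card_congr
  refine
    { toFun := fun x => (⟨x.1.1, ?_⟩, ⟨x.1.2, ?_⟩)
      invFun := fun y => ⟨(y.1.1, y.2.1), ?_⟩
      left_inv := fun x => rfl
      right_inv := fun y => rfl }
  · have := congrArg Prod.fst x.2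
    simpa using this
  · have := congrArg Prod.snd x.2
    simpa using this
  · rw [Prod.ext_iff]
    exact ⟨by simpa using y.1.2, by simpa using y.2.2⟩

end Cfsg.Agent.Lib.Helper49.OT
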