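import Mathlib
import Cfsg.Agent.Lib.Helper49.OT.Defs
import Cfsg.Agent.Lib.Helper49.OT.SolProd

/-! OT-L3 (S4376 hive, owner helper49; leaf by helper46) -/

namespace Cfsg.Agent.Lib.Helper49.OT

theorem solWr_c2_cases (r : C 2) : r = 1 ∨ r = Multiplicative.ofAdd 1 := by
  revert r; decide

theorem solWr_c2_sq (r : C 2) : r ^ 2 = 1 := by
  revert r; decide

theorem solWr_sigma_ne : (Multiplicative.ofAdd 1 : C 2) ≠ 1 := by decide

theorem solWr_sigma_pow_odd (k : ℕ) : (Multiplicative.ofAdd 1 : C 2) ^ (2 * k + 1) = Multiplicative.ofAdd 1 := by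
  rw [pow_succ, pow_mul, solWr_c2_sq, one_pow, one_mul]

theorem wrC2_pow_eq_one (X : Type*) [Group X] (e : ℕ) (he : ∀ x : X, x ^ e = 1) (w : WrC2 X) :
    w ^ (2 * e) = 1 := by
  have h1 : w ^ 2 ∈ (SemidirectProduct.rightHom : WrC2 X →* C 2).ker := by
    rw [MonoidHom.mem_ker, map_pow]
    exact solWr_c2_sq _
  rw [← SemidirectProduct.range_inl_eq_ker_rightHom] at h1
  obtain ⟨c, hc⟩ := h1
  rw [pow_mul, ← hc, ← map_pow]
  have : c ^ e = 1 := Prod.ext (by simp [he]) (by simp [he])
  rw [this, map_one]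

section count
variable (X : Type*) [Group X]

/-- the two cosets of the base group -/
def solWr_equivSum : WrC2 X ≃ (X × X) ⊕ (X × X) where
  toFun w := if w.right = 1 then Sum.inl w.left else Sum.inr w.left
  invFun := Sum.elim (fun a => ⟨a, 1⟩) (fun a => ⟨a, Multiplicative.ofAdd 1⟩)
  left_inv w := by
    rcases solWr_c2_cases w.right with h | h
    · simp only [h, if_true, Sum.elim_inl]
      exact SemidirectProduct.ext rfl h.symm
    · have h' : w.right ≠ 1 := by rw [h]; exact solWr_sigma_ne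
      simp only [h', if_false, Sum.elim_inr]
      exact SemidirectProduct.ext rfl h.symm
  right_inv c := by
    rcases c with a | a
    · simp
    · simp

theorem solWr_split [Finite X] (n : ℕ) :
    solCount (WrC2 X) n = Nat.card {a : X × X // (⟨a, 1⟩ : WrC2 X) ^ n = 1} +
      Nat.card {a : X × X // (⟨a, Multiplicative.ofAdd 1⟩ : WrC2 X) ^ n = 1} := by
  unfold solCount
  rw [← Nat.card_sum]
  apply Nat.card_congr
  refine ((solWr_equivSum X).subtypeEquiv
    (q := fun c => ((solWr_equivSum X).symm c) ^ n = 1) (fun w => by simp)).trans ?_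
  exact Equiv.subtypeSum

theorem solWr_part1 (n : ℕ) :
    Nat.card {a : X × X // (⟨a, 1⟩ : WrC2 X) ^ n = 1} = solCount X n ^ 2 := by
  rw [sq, ← solCount_prod]
  unfold solCount
  apply Nat.card_congr
  apply Equiv.subtypeEquivRight
  intro a
  have h1 : (⟨a, 1⟩ : WrC2 X) = SemidirectProduct.inl a := rfl
  rw [h1, ← map_pow, map_eq_one_iff _ SemidirectProduct.inl_injective]

theorem solWr_sq (a : X × X) :
    (⟨a, Multiplicative.ofAdd 1⟩ : WrC2 X) ^ 2 = SemidirectProduct.inl (a * (a.2, a.1)) := by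
  rw [sq]
  apply SemidirectProduct.ext
  · rw [SemidirectProduct.mul_left, SemidirectProduct.left_inl]
    rfl
  · rw [SemidirectProduct.mul_right, SemidirectProduct.right_inl]
    show (Multiplicative.ofAdd 1 : C 2) * Multiplicative.ofAdd 1 = 1
    decide

theorem solWr_odd (a : X × X) (k : ℕ) :
    (⟨a, Multiplicative.ofAdd 1⟩ : WrC2 X) ^ (2 * k + 1) ≠ 1 := by
  intro h
  have h2 : (SemidirectProduct.rightHom : WrC2 X →* C 2)
      ((⟨a, Multiplicative.ofAdd 1⟩ : WrC2 X) ^ (2 * k + 1)) = 1 := by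
    rw [h]; exact MonoidHom.map_one _
  rw [MonoidHom.map_pow] at h2
  have h3 : (SemidirectProduct.rightHom : WrC2 X →* C 2) ⟨a, Multiplicative.ofAdd 1⟩ =
      Multiplicative.ofAdd 1 := rfl
  rw [h3, solWr_sigma_pow_odd] at h2
  exact solWr_sigma_ne h2

theorem solWr_even (a : X × X) (k : ℕ) :
    (⟨a, Multiplicative.ofAdd 1⟩ : WrC2 X) ^ (2 * k) = 1 ↔ (a.1 * a.2) ^ k = 1 := by
  rw [pow_mul, solWr_sq, ← map_pow, map_eq_one_iff _ SemidirectProduct.inl_injective,
    Prod.ext_iff]
  simp only [Prod.pow_fst, Prod.fst_mul, Prod.pow_snd, Prod.snd_mul, Prod.fst_one, Prod.snd_one]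
  constructor
  · exact fun h => h.1
  · intro h
    refine ⟨h, ?_⟩
    have h1 : a.2 * a.1 = a.2 * (a.1 * a.2) * a.2⁻¹ := by group
    rw [h1, conj_pow, h]
    group

theorem solWr_shear (k : ℕ) :
    Nat.card {a : X × X // (a.1 * a.2) ^ k = 1} = Nat.card X * solCount X k := by
  unfold solCount
  rw [← Nat.card_prod]
  apply Nat.card_congr
  refine
    { toFun := fun a => (a.1.1, ⟨a.1.1 * a.1.2, a.2⟩)
      invFun := fun p => ⟨(p.1, p.1⁻¹ * p.2.1), ?_⟩
      left_inv := ?_
      right_inv := ?_ }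
  · simpa using p.2.2
  · intro a
    apply Subtype.ext
    simp
  · intro p
    apply Prod.ext
    · rfl
    · apply Subtype.ext
      simp

theorem solWr_part2 (n : ℕ) :
    Nat.card {a : X × X // (⟨a, Multiplicative.ofAdd 1⟩ : WrC2 X) ^ n = 1} =
      if 2 ∣ n then Nat.card X * solCount X (n / 2) else 0 := by
  rcases Nat.even_or_odd' n with ⟨k, rfl | rfl⟩
  · rw [if_pos (dvd_mul_right 2 k), Nat.mul_div_cancel_left k (by norm_num), ← solWr_shear]
    apply Nat.card_congr
    apply Equiv.subtypeEquivRight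
    intro a
    exact solWr_even X a k
  · rw [if_neg (by omega)]
    have : IsEmpty {a : X × X // (⟨a, Multiplicative.ofAdd 1⟩ : WrC2 X) ^ (2 * k + 1) = 1} :=
      ⟨fun a => solWr_odd X a.1 k a.2⟩
    exact Nat.card_of_isEmpty

end count

theorem solCount_wrC2 (X : Type*) [Group X] [Finite X] (n : ℕ) :
    solCount (WrC2 X) n = solCount X n ^ 2 + (if 2 ∣ n then Nat.card X * solCount X (n / 2) else 0) := by
  rw [solWr_split, solWr_part1, solWr_part2]

end Cfsg.Agent.Lib.Helper49.OT
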