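import Mathlib
import Cfsg.Agent.Lib.Helper49.OT.Defs

/-! OT-L5 (S4376 hive, owner helper49; leaf by helper46) -/

namespace Cfsg.Agent.Lib.Helper49.OT

theorem isSolvable_semidirect {N K : Type*} [Group N] [Group K] (φ : K →* MulAut N)
    [Group.IsSolvable N] [Group.IsSolvable K] : Group.IsSolvable (N ⋊[φ] K) := by
  apply Group.isSolvable_of_ker_le_range (SemidirectProduct.inl : N →* N ⋊[φ] K)
    (SemidirectProduct.rightHom : N ⋊[φ] K →* K)
  rw [SemidirectProduct.range_inl_eq_ker_rightHom]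

end Cfsg.Agent.Lib.Helper49.OT
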