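import Cfsg.Agent.Lib.Helper49.OT.Tables
import Cfsg.Agent.Lib.Helper49.OT.OrderType
import Cfsg.Agent.Lib.Helper49.OT.SolProd
import Cfsg.Agent.Lib.Helper49.OT.SolWr
import Cfsg.Agent.Lib.Helper49.OT.SolGcd
import Cfsg.Agent.Lib.Helper49.OT.SolvSemi

/-!
# S4376: a solvable and a non-solvable group with the same order type

`GG = AΓL(1,8) × (Y ≀ C₂)` is solvable, `HH = PGL(2,7) × (Y × Y)` is not, where
`Y = C₂ × C₂ × C₄ × F₂₁`; both have order `37933056` and the same number of elements of each order.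
-/

namespace Cfsg.Agent.Lib.Helper49.OT

/-- the non-solvable group `PGL(2,7) × (Y × Y)` -/
abbrev HH := PGL27 × (Y × Y)

theorem tbl_Y (d : ℕ) (hd : d ∣ 336) :
    solCount Y d = tC2 d * (tC2 d * (tC4 d * tF21 d)) := by
  rw [solCount_prod, solCount_prod, solCount_prod, tbl_C2 d hd, tbl_C4 d hd, tbl_F21 d hd]

theorem card_Y : Nat.card Y = 336 := by
  rw [Nat.card_eq_fintype_card]
  decide +kernel

theorem pow_Y (y : Y) : y ^ 84 = 1 := by
  obtain ⟨a, b, c, f⟩ := y
  have ha : a ^ 84 = 1 := by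
    rw [show 84 = 2 * 42 by norm_num, pow_mul, pow_C2, one_pow]
  have hb : b ^ 84 = 1 := by
    rw [show 84 = 2 * 42 by norm_num, pow_mul, pow_C2, one_pow]
  have hc : c ^ 84 = 1 := by
    rw [show 84 = 4 * 21 by norm_num, pow_mul, pow_C4, one_pow]
  have hf : f ^ 84 = 1 := by
    rw [show 84 = 21 * 4 by norm_num, pow_mul, pow_F21, one_pow]
  simp only [Prod.pow_mk, ha, hb, hc, hf]
  rfl

theorem pow_GG (g : GG) : g ^ 336 = 1 := by
  obtain ⟨a, w⟩ := g
  have ha : a ^ 336 = 1 := by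
    rw [show 336 = 168 * 2 by norm_num, pow_mul, pow_AGaL8, one_pow]
  have hw : w ^ 336 = 1 := by
    have := wrC2_pow_eq_one Y 84 pow_Y w
    rw [show 336 = (2 * 84) * 2 by norm_num, pow_mul, this, one_pow]
  simp only [Prod.pow_mk, ha, hw]
  rfl

theorem pow_HH (h : HH) : h ^ 336 = 1 := by
  obtain ⟨p, y1, y2⟩ := h
  have hp : p ^ 336 = 1 := pow_PGL27 p
  have h1 : y1 ^ 336 = 1 := by
    rw [show 336 = 84 * 4 by norm_num, pow_mul, pow_Y, one_pow]
  have h2 : y2 ^ 336 = 1 := by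
    rw [show 336 = 84 * 4 by norm_num, pow_mul, pow_Y, one_pow]
  simp only [Prod.pow_mk, hp, h1, h2]
  rfl

theorem solCount_GG (d : ℕ) (hd : d ∣ 336) :
    solCount GG d = tAGaL8 d * ((tC2 d * (tC2 d * (tC4 d * tF21 d))) ^ 2 +
      (if 2 ∣ d then 336 * (tC2 (d / 2) * (tC2 (d / 2) * (tC4 (d / 2) * tF21 (d / 2)))) else 0)) := by
  rw [solCount_prod, tbl_AGaL8 d, solCount_wrC2, tbl_Y d hd, card_Y]
  congr 2
  split_ifs with h2
  · rw [tbl_Y (d / 2) ((Nat.div_dvd_of_dvd h2).trans hd)]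
  · rfl

theorem solCount_HH (d : ℕ) (hd : d ∣ 336) :
    solCount HH d = tPGL27 d * ((tC2 d * (tC2 d * (tC4 d * tF21 d))) *
      (tC2 d * (tC2 d * (tC4 d * tF21 d)))) := by
  rw [solCount_prod, solCount_prod, tbl_PGL27 d hd, tbl_Y d hd]

theorem solCount_GG_eq_HH (n : ℕ) : solCount GG n = solCount HH n := by
  rw [solCount_gcd GG 336 pow_GG n, solCount_gcd HH 336 pow_HH n]
  have hd : Nat.gcd n 336 ∣ 336 := Nat.gcd_dvd_right n 336
  rw [solCount_GG _ hd, solCount_HH _ hd]
  exact numeric_key _ (Nat.mem_divisors.mpr ⟨hd, by norm_num⟩)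

instance : Group.IsSolvable F21 := isSolvable_semidirect _
instance : Group.IsSolvable AGL8 := isSolvable_semidirect _
instance : Group.IsSolvable AGaL8 := isSolvable_semidirect _
instance : Group.IsSolvable (WrC2 Y) := isSolvable_semidirect _

theorem isSolvable_GG : Group.IsSolvable GG := inferInstance

theorem not_isSolvable_HH : ¬ Group.IsSolvable HH := by
  intro h
  exact PGL27.not_isSolvable
    (Group.isSolvable_of_isSolvable_injective (f := MonoidHom.inl PGL27 (Y × Y))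
      (fun a b hab => by simpa using congrArg Prod.fst hab))

theorem main : ∃ (G : Type) (_ : Group G) (_ : Finite G) (H : Type) (_ : Group H) (_ : Finite H),
    Group.IsSolvable G ∧ ¬ Group.IsSolvable H ∧
      ∀ n : ℕ, Nat.card {g : G // orderOf g = n} = Nat.card {h : H // orderOf h = n} :=
  ⟨GG, inferInstance, inferInstance, HH, inferInstance, inferInstance, isSolvable_GG,
    not_isSolvable_HH, orderType_eq_of_solCount_eq fun n _ => solCount_GG_eq_HH n⟩

end Cfsg.Agent.Lib.Helper49.OT
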