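import Cfsg.Agent.Lib.Helper49.OT.Defs

/-!
# A computable model of `PGL(2,7)` (order 336)

Elements are Möbius transformations of the projective line over `𝔽₇` in Bruhat normal form,
encoded as numbers `e = a * 56 + b * 8 + u < 336`: if `u = 7` the element is
`x ↦ (a+1) x + b`, otherwise it is `x ↦ b - (a+1)/(x+u)`.  Points are `0..6` and `7 = ∞`.
The group axioms are checked by kernel computation through the faithful action on the 8 points.
-/

namespace Cfsg.Agent.Lib.Helper49.OT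

open scoped commutatorElement

namespace PGLN

/-- the action, on numbers -/
def coreN (e x : ℕ) : ℕ :=
  let a := e / 56 + 1
  let b := e / 8 % 7
  let u := e % 8
  bif u == 7 then (bif x == 7 then 7 else (a * x + b) % 7)
  else bif x == 7 then b
  else bif (x + u) % 7 == 0 then 7
  else (b + 7 - a * ((x + u) ^ 5 % 7) % 7) % 7

/-- the action, on numbers, normalised -/
def actN (e x : ℕ) : ℕ := coreN e (x % 8) % 8

/-- the finite pole -/
def poleN (h : ℕ → ℕ) : ℕ :=
  bif h 0 == 7 then 0 else bif h 1 == 7 then 1 else bif h 2 == 7 then 2 else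
  bif h 3 == 7 then 3 else bif h 4 == 7 then 4 else bif h 5 == 7 then 5 else 6

/-- read off the code of a Möbius map from its values -/
def decodeN (h : ℕ → ℕ) : ℕ :=
  let hi := h 7
  bif hi == 7 then
    let h0 := h 0
    let c := (h 1 + 7 - h0 % 7) % 7
    ((c + 5) % 6) * 56 + (h0 % 7) * 8 + 7
  else
    let u := (7 - poleN h) % 7
    let v := h ((8 - u) % 7)
    let c := (hi + 7 - v % 7) % 7
    ((c + 5) % 6) * 56 + (hi % 7) * 8 + u

/-- the inverse, on codes -/
def invN (e : ℕ) : ℕ :=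
  let a := e / 56 + 1
  let b := e / 8 % 7
  let u := e % 8
  bif u == 7 then
    let c5 := a ^ 5 % 7
    ((c5 + 5) % 6) * 56 + ((7 - (b * c5) % 7) % 7) * 8 + 7
  else (e / 56) * 56 + ((7 - u) % 7) * 8 + (7 - b) % 7

/-- the element orders, by code -/
def ordList : List ℕ :=
   [2, 3, 7, 4, 4, 7, 3, 1, 3, 7, 4, 4, 7, 3, 2, 7, 7, 4, 4, 7, 3, 2, 3, 7, 4, 4, 7, 3, 2, 3,
    7, 7, 4, 7, 3, 2, 3, 7, 4, 7, 7, 3, 2, 3, 7, 4, 4, 7, 3, 2, 3, 7, 4, 4, 7, 7, 2, 7, 4, 3,
    3, 4, 7, 3, 7, 4, 3, 3, 4, 7, 2, 3, 4, 3, 3, 4, 7, 2, 7, 3, 3, 3, 4, 7, 2, 7, 4, 3, 3, 4,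
    7, 2, 7, 4, 3, 3, 4, 7, 2, 7, 4, 3, 3, 3, 7, 2, 7, 4, 3, 3, 4, 3, 2, 8, 8, 6, 6, 8, 8, 6,
    8, 8, 6, 6, 8, 8, 2, 6, 8, 6, 6, 8, 8, 2, 8, 6, 6, 6, 8, 8, 2, 8, 8, 6, 6, 8, 8, 2, 8, 8,
    6, 6, 8, 8, 2, 8, 8, 6, 6, 6, 8, 2, 8, 8, 6, 6, 8, 6, 2, 4, 3, 7, 7, 3, 4, 3, 4, 3, 7, 7,
    3, 4, 2, 3, 3, 7, 7, 3, 4, 2, 4, 3, 7, 7, 3, 4, 2, 4, 3, 3, 7, 3, 4, 2, 4, 3, 7, 3, 3, 4,
    2, 4, 3, 7, 7, 3, 4, 2, 4, 3, 7, 7, 3, 3, 2, 6, 8, 8, 8, 8, 6, 6, 6, 8, 8, 8, 8, 6, 2, 6,
    8, 8, 8, 8, 6, 2, 6, 6, 8, 8, 8, 6, 2, 6, 8, 6, 8, 8, 6, 2, 6, 8, 8, 6, 8, 6, 2, 6, 8, 8,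
    8, 6, 6, 2, 6, 8, 8, 8, 8, 6, 2, 8, 6, 8, 8, 6, 8, 2, 8, 6, 8, 8, 6, 8, 2, 2, 6, 8, 8, 6,
    8, 2, 8, 2, 8, 8, 6, 8, 2, 8, 6, 2, 8, 6, 8, 2, 8, 6, 8, 2, 6, 8, 2, 8, 6, 8, 8, 2, 8, 2,
    8, 6, 8, 8, 6, 2]

end PGLN

/-- `PGL(2,7)`, as codes -/
def PGL27 : Type := Fin 336

namespace PGL27

instance : DecidableEq PGL27 := inferInstanceAs (DecidableEq (Fin 336))
instance : Fintype PGL27 := inferInstanceAs (Fintype (Fin 336))

/-- the element with a given code -/
def mk (n : ℕ) : PGL27 := (Fin.ofNat 336 n : Fin 336)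

/-- the code of an element -/
def val (g : PGL27) : ℕ := Fin.val (show Fin 336 from g)

/-- the action on the projective line -/
def act (g : PGL27) (x : Fin 8) : Fin 8 :=
  ⟨PGLN.actN g.val x.val, Nat.mod_lt _ (by norm_num)⟩

/-- read off an element from its action -/
def decode (h : Fin 8 → Fin 8) : PGL27 := mk (PGLN.decodeN fun x => (h (Fin.ofNat 8 x)).val)

instance : Mul PGL27 := ⟨fun g h => decode fun x => act g (act h x)⟩
instance : One PGL27 := ⟨mk 7⟩
instance : Inv PGL27 := ⟨fun g => mk (PGLN.invN g.val)⟩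

theorem mul_def (g h : PGL27) : g * h = decode fun x => act g (act h x) := rfl

set_option maxRecDepth 1000000 in
theorem decode_act : ∀ g : PGL27, decode (act g) = g := by decide +kernel

theorem act_injective (g h : PGL27) (e : act g = act h) : g = h := by
  rw [← decode_act g, ← decode_act h, e]

/-- generators: translations, homotheties and `x ↦ -1/x` -/
def gens : List PGL27 :=
  (List.range 7).map (fun b => mk (b * 8 + 7)) ++ (List.range 6).map (fun a => mk (a * 56 + 7)) ++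
    [mk 0]

/-- right multiplication by `f` is compatible with the action -/
def R (f : PGL27) : Prop := ∀ (e : PGL27) (x : Fin 8), act (e * f) x = act e (act f x)

set_option maxRecDepth 1000000 in
theorem R_gens : ∀ f ∈ gens, ∀ (e : PGL27) (x : Fin 8), act (e * f) x = act e (act f x) := by
  decide +kernel

theorem R_mul {f f' : PGL27} (hf : R f) (hf' : R f') : R (f * f') := by
  intro e x
  have h1 : act (f * f') = fun y => act f (act f' y) := funext (hf' f)
  have h2 : e * (f * f') = (e * f) * f' := by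
    rw [mul_def e, mul_def (e * f), h1]
    congr 1
    funext y
    rw [hf e]
  rw [h2, hf' (e * f) x, hf e, h1]

set_option maxRecDepth 1000000 in
theorem gen_decomp : ∀ g : PGL27, g =
    (if g.val % 8 = 7 then mk (g.val / 8 % 7 * 8 + 7) * mk (g.val / 56 * 56 + 7)
     else mk (g.val / 8 % 7 * 8 + 7) * mk (g.val / 56 * 56 + 7) * mk 0 * mk (g.val % 8 * 8 + 7)) := by
  decide +kernel

theorem R_T (b : ℕ) (hb : b < 7) : R (mk (b * 8 + 7)) := fun e x =>
  R_gens _ (by
    unfold gens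
    simp only [List.mem_append, List.mem_map, List.mem_range]
    exact Or.inl (Or.inl ⟨b, hb, rfl⟩)) e x

theorem R_M (a : ℕ) (ha : a < 6) : R (mk (a * 56 + 7)) := fun e x =>
  R_gens _ (by
    unfold gens
    simp only [List.mem_append, List.mem_map, List.mem_range]
    exact Or.inl (Or.inr ⟨a, ha, rfl⟩)) e x

theorem R_W : R (mk 0) := fun e x =>
  R_gens _ (by
    unfold gens
    simp only [List.mem_append, List.mem_map, List.mem_range, List.mem_singleton]
    exact Or.inr trivial) e x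

theorem val_lt (g : PGL27) : g.val < 336 := Fin.isLt (show Fin 336 from g)

theorem act_mul (e f : PGL27) (x : Fin 8) : act (e * f) x = act e (act f x) := by
  have hb : f.val / 8 % 7 < 7 := Nat.mod_lt _ (by norm_num)
  have ha : f.val / 56 < 6 := by
    have := val_lt f
    omega
  have hall : R f := by
    rw [gen_decomp f]
    split_ifs with h
    · exact R_mul (R_T _ hb) (R_M _ ha)
    · have hu : f.val % 8 < 7 := by
        have := Nat.mod_lt f.val (show 0 < 8 by norm_num)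
        omega
      exact R_mul (R_mul (R_mul (R_T _ hb) (R_M _ ha)) R_W) (R_T _ hu)
  exact hall e x

set_option maxRecDepth 1000000 in
instance : Group PGL27 := Group.ofLeftAxioms
  (fun g h k => act_injective _ _ (funext fun x => by simp only [act_mul]))
  (by decide +kernel)
  (by decide +kernel)

theorem card_eq : Fintype.card PGL27 = 336 := Fintype.card_fin 336

set_option maxRecDepth 1000000 in
theorem not_isSolvable : ¬ Group.IsSolvable PGL27 := by
  let x : PGL27 := mk 1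
  let y : PGL27 := mk 0
  let z : PGL27 := mk 71
  have key : x = z * ⁅x, y * x * y⁻¹⁆ * z⁻¹ := by unfold x y z; decide +kernel
  refine not_isSolvable_of_mem_derivedSeries (show x ≠ 1 by decide +kernel) fun n => ?_
  induction n with
  | zero => exact Subgroup.mem_top x
  | succ n ih =>
    rw [key, (derivedSeries_normal _ _).mem_comm_iff, inv_mul_cancel_left]
    exact Subgroup.commutator_mem_commutator ih ((derivedSeries_normal _ _).conj_mem _ ih _)

/-- the order of an element, from the table -/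
def ordB (g : PGL27) : ℕ := PGLN.ordList.getD g.val 0

set_option maxRecDepth 1000000 in
theorem ordB_spec : ∀ g : PGL27, 0 < ordB g ∧ g ^ ordB g = 1 ∧
    ∀ m < ordB g, 0 < m → g ^ m ≠ 1 := by decide +kernel

theorem orderOf_eq (g : PGL27) : orderOf g = ordB g := by
  obtain ⟨h0, h1, h2⟩ := ordB_spec g
  exact (orderOf_eq_iff h0).mpr ⟨h1, h2⟩

theorem solCount_eq (d : ℕ) :
    solCount PGL27 d = (Finset.univ.filter fun g : PGL27 => ordB g ∣ d).card := by
  unfold solCount
  rw [Nat.card_eq_fintype_card, Fintype.card_subtype]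
  congr 1
  ext g
  simp only [Finset.mem_filter, Finset.mem_univ, true_and]
  rw [← orderOf_eq, orderOf_dvd_iff_pow_eq_one]

end PGL27
end Cfsg.Agent.Lib.Helper49.OT
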