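import Cfsg.Agent.Lib.Helper49.OT.Defs
import Cfsg.Agent.Lib.Helper49.OT.PGL27
import Cfsg.Agent.Lib.Helper49.OT.SolGcd

/-!
# Tables of `solCount` for the base groups of S4376, at the divisors of 336
-/

namespace Cfsg.Agent.Lib.Helper49.OT

/-- table for `C₂` -/
def tC2 (d : ℕ) : ℕ := Nat.gcd d 2
/-- table for `C₄` -/
def tC4 (d : ℕ) : ℕ := Nat.gcd d 4
/-- table for `F₂₁` -/
def tF21 (d : ℕ) : ℕ := 1 + (if 3 ∣ d then 14 else 0) + (if 7 ∣ d then 6 else 0)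
/-- table for `AΓL(1,8)` -/
def tAGaL8 (d : ℕ) : ℕ :=
  1 + (if 2 ∣ d then 7 else 0) + (if 3 ∣ d then 56 else 0) + (if 6 ∣ d then 56 else 0) +
    (if 7 ∣ d then 48 else 0)
/-- table for `PGL(2,7)` -/
def tPGL27 (d : ℕ) : ℕ :=
  1 + (if 2 ∣ d then 49 else 0) + (if 3 ∣ d then 56 else 0) + (if 4 ∣ d then 42 else 0) +
    (if 6 ∣ d then 56 else 0) + (if 7 ∣ d then 48 else 0) + (if 8 ∣ d then 84 else 0)

set_option maxRecDepth 1000000 in
theorem tbl_C2_aux : ∀ d ∈ Nat.divisors 336,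
    (Finset.univ.filter fun x : C 2 => x ^ d = 1).card = tC2 d := by decide +kernel

set_option maxRecDepth 1000000 in
theorem tbl_C4_aux : ∀ d ∈ Nat.divisors 336,
    (Finset.univ.filter fun x : C 4 => x ^ d = 1).card = tC4 d := by decide +kernel

set_option maxRecDepth 1000000 in
theorem tbl_F21_aux : ∀ d ∈ Nat.divisors 336,
    (Finset.univ.filter fun x : F21 => x ^ d = 1).card = tF21 d := by decide +kernel

set_option maxRecDepth 1000000 in
theorem tbl_AGaL8_aux : ∀ d ∈ Nat.divisors 42,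
    (Finset.univ.filter fun x : AGaL8 => x ^ d = 1).card = tAGaL8 d := by decide +kernel

set_option maxRecDepth 1000000 in
theorem pow_AGaL8_aux : ∀ x : AGaL8, ((x ^ 2) ^ 3) ^ 7 = 1 := by decide +kernel

theorem pow_AGaL8_42 (x : AGaL8) : x ^ 42 = 1 := by
  have := pow_AGaL8_aux x
  rwa [← pow_mul, ← pow_mul] at this

theorem tAGaL8_gcd (d : ℕ) : tAGaL8 (Nat.gcd d 42) = tAGaL8 d := by
  unfold tAGaL8
  have h2 : (2 ∣ Nat.gcd d 42) ↔ 2 ∣ d := by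
    rw [Nat.dvd_gcd_iff]; exact ⟨fun h => h.1, fun h => ⟨h, by norm_num⟩⟩
  have h3 : (3 ∣ Nat.gcd d 42) ↔ 3 ∣ d := by
    rw [Nat.dvd_gcd_iff]; exact ⟨fun h => h.1, fun h => ⟨h, by norm_num⟩⟩
  have h6 : (6 ∣ Nat.gcd d 42) ↔ 6 ∣ d := by
    rw [Nat.dvd_gcd_iff]; exact ⟨fun h => h.1, fun h => ⟨h, by norm_num⟩⟩
  have h7 : (7 ∣ Nat.gcd d 42) ↔ 7 ∣ d := by
    rw [Nat.dvd_gcd_iff]; exact ⟨fun h => h.1, fun h => ⟨h, by norm_num⟩⟩
  simp only [h2, h3, h6, h7]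

set_option maxRecDepth 1000000 in
theorem tbl_PGL27_aux : ∀ d ∈ Nat.divisors 336,
    (Finset.univ.filter fun g : PGL27 => PGL27.ordB g ∣ d).card = tPGL27 d := by decide +kernel

theorem tbl_C2 (d : ℕ) (hd : d ∣ 336) : solCount (C 2) d = tC2 d := by
  rw [solCount_eq_card_filter]
  exact tbl_C2_aux d (Nat.mem_divisors.mpr ⟨hd, by norm_num⟩)

theorem tbl_C4 (d : ℕ) (hd : d ∣ 336) : solCount (C 4) d = tC4 d := by
  rw [solCount_eq_card_filter]
  exact tbl_C4_aux d (Nat.mem_divisors.mpr ⟨hd, by norm_num⟩)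

theorem tbl_F21 (d : ℕ) (hd : d ∣ 336) : solCount F21 d = tF21 d := by
  rw [solCount_eq_card_filter]
  exact tbl_F21_aux d (Nat.mem_divisors.mpr ⟨hd, by norm_num⟩)

theorem tbl_AGaL8 (d : ℕ) : solCount AGaL8 d = tAGaL8 d := by
  rw [solCount_gcd AGaL8 42 pow_AGaL8_42 d, solCount_eq_card_filter, ← tAGaL8_gcd d]
  exact tbl_AGaL8_aux _ (Nat.mem_divisors.mpr ⟨Nat.gcd_dvd_right d 42, by norm_num⟩)

theorem tbl_PGL27 (d : ℕ) (hd : d ∣ 336) : solCount PGL27 d = tPGL27 d := by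
  rw [PGL27.solCount_eq]
  exact tbl_PGL27_aux d (Nat.mem_divisors.mpr ⟨hd, by norm_num⟩)

/-! ### exponents -/

set_option maxRecDepth 1000000 in
theorem pow_C2 : ∀ x : C 2, x ^ 2 = 1 := by decide +kernel

set_option maxRecDepth 1000000 in
theorem pow_C4 : ∀ x : C 4, x ^ 4 = 1 := by decide +kernel

set_option maxRecDepth 1000000 in
theorem pow_F21 : ∀ x : F21, x ^ 21 = 1 := by decide +kernel

theorem pow_AGaL8 (x : AGaL8) : x ^ 168 = 1 := by
  rw [show 168 = 42 * 4 by norm_num, pow_mul, pow_AGaL8_42, one_pow]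

theorem pow_PGL27 (g : PGL27) : g ^ 336 = 1 := by
  have := pow_card_eq_one (x := g)
  rwa [PGL27.card_eq] at this

/-- the final numerical identity -/
theorem numeric_key : ∀ d ∈ Nat.divisors 336,
    tAGaL8 d * ((tC2 d * (tC2 d * (tC4 d * tF21 d))) ^ 2 +
      (if 2 ∣ d then 336 * (tC2 (d / 2) * (tC2 (d / 2) * (tC4 (d / 2) * tF21 (d / 2)))) else 0)) =
    tPGL27 d * ((tC2 d * (tC2 d * (tC4 d * tF21 d))) * (tC2 d * (tC2 d * (tC4 d * tF21 d)))) := by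
  decide +kernel

end Cfsg.Agent.Lib.Helper49.OT
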